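import Mathlib
import Groth.Prelude.Def_CycAlg

/-!
# Common factor of two nonzerodivisors in a finite extension of a one-dimensional local ring
-/

set_option autoImplicit false
set_option linter.style.haveILetI false
universe u

open Polynomial

namespace Groth.Agent.CommonFactor

variable {R Q : Type u} [CommRing R] [CommRing Q] [Algebra R Q]

/-- values at `x` of polynomials of degree at most `n` -/
noncomputable def M (x : Q) (n : ℕ) : Submodule R Q :=
  (Polynomial.degreeLE R n).map (Polynomial.aeval x).toLinearMap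

lemma aeval_mem_M (x : Q) {n : ℕ} (f : R[X]) (hf : f.natDegree ≤ n) : aeval x f ∈ M (R := R) x n :=
  ⟨f, Polynomial.mem_degreeLE.2 (Polynomial.natDegree_le_iff_degree_le.1 hf), rfl⟩

lemma exists_of_mem_M {x y : Q} {n : ℕ} (hy : y ∈ M (R := R) x n) :
    ∃ f : R[X], f.natDegree ≤ n ∧ aeval x f = y := by
  obtain ⟨f, hf, rfl⟩ := hy
  exact ⟨f, Polynomial.natDegree_le_iff_degree_le.2 (Polynomial.mem_degreeLE.1 hf), rfl⟩

lemma M_mono (x : Q) {i j : ℕ} (h : i ≤ j) : M (R := R) x i ≤ M x j := fun y hy => by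
  obtain ⟨f, hf, rfl⟩ := exists_of_mem_M hy
  exact aeval_mem_M x f (hf.trans h)

lemma one_mem_M (x : Q) (n : ℕ) : (1 : Q) ∈ M (R := R) x n := by
  simpa using aeval_mem_M (R := R) x (n := n) 1 (by simp)

lemma mul_mem_M {x y z : Q} {i j : ℕ} (hy : y ∈ M (R := R) x i) (hz : z ∈ M (R := R) x j) :
    y * z ∈ M (R := R) x (i + j) := by
  obtain ⟨f, hf, rfl⟩ := exists_of_mem_M hy
  obtain ⟨g, hg, rfl⟩ := exists_of_mem_M hz
  rw [← map_mul]
  exact aeval_mem_M x _ (Polynomial.natDegree_mul_le.trans (Nat.add_le_add hf hg))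

lemma fg_M (x : Q) (n : ℕ) : (M (R := R) x n).FG := by
  classical
  refine ⟨(Finset.range (n + 1)).image fun i => x ^ i, ?_⟩
  rw [M, Polynomial.degreeLE_eq_span_X_pow, Submodule.map_span, Finset.coe_image, Finset.coe_image, Set.image_image]
  simp

lemma smul_mul_mem {m : Ideal R} {x y z : Q} {i j : ℕ} (hy : y ∈ m • M (R := R) x i) (hz : z ∈ M (R := R) x j) :
    y * z ∈ m • M (R := R) x (i + j) := by
  refine Submodule.smul_induction_on hy (fun r hr w hw => ?_) fun a b ha hb => by rw [add_mul]; exact add_mem ha hb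
  rw [smul_mul_assoc]
  exact Submodule.smul_mem_smul hr (mul_mem_M hw hz)

variable [IsNoetherianRing R] [IsLocalRing R]

lemma isFiniteLength_quot (hR : ringKrullDim R = 1) (a : R) (ha : a ∈ nonZeroDivisors R) :
    IsFiniteLength R (R ⧸ Ideal.span {a}) :=
  haveI : Ring.KrullDimLE 1 R := Ring.krullDimLE_iff.2 hR.le
  isFiniteLength_quotient_span_singleton R ha

lemma length_quot_smul_eq (a : R) (ha : a ∈ nonZeroDivisors R) (J : Ideal R)
    (hJ : IsFiniteLength R (R ⧸ J)) :
    Module.length R (J ⧸ (Submodule.map (LinearMap.mulLeft R a) J).comap J.subtype) = Module.length R (R ⧸ Ideal.span {a}) := by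
  let aJ : Submodule R R := Submodule.map (LinearMap.mulLeft R a) J
  have hle : aJ ≤ J := by
    rintro _ ⟨z, hz, rfl⟩
    exact J.mul_mem_left a hz
  have hle2 : aJ ≤ Ideal.span {a} := by
    rintro _ ⟨z, -, rfl⟩
    exact Ideal.mul_mem_right z _ (Ideal.mem_span_singleton_self a)
  let f₁ : (J ⧸ aJ.comap J.subtype) →ₗ[R] R ⧸ aJ := Submodule.mapQ (aJ.comap J.subtype) aJ J.subtype le_rfl
  let g₁ : (R ⧸ aJ) →ₗ[R] R ⧸ J := Submodule.mapQ aJ J LinearMap.id hle
  have hf₁ : Function.Injective f₁ := by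
    intro x y h
    obtain ⟨x, rfl⟩ := Submodule.Quotient.mk_surjective _ x
    obtain ⟨y, rfl⟩ := Submodule.Quotient.mk_surjective _ y
    rw [Submodule.mapQ_apply, Submodule.mapQ_apply, Submodule.Quotient.eq] at h
    exact (Submodule.Quotient.eq _).2 h
  have hg₁ : Function.Surjective g₁ := fun z => by
    obtain ⟨z, rfl⟩ := Submodule.Quotient.mk_surjective _ z
    exact ⟨Submodule.Quotient.mk z, rfl⟩
  have he₁ : Function.Exact f₁ g₁ := fun z => by
    obtain ⟨z, rfl⟩ := Submodule.Quotient.mk_surjective _ z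
    constructor
    · intro h
      exact ⟨Submodule.Quotient.mk ⟨z, (Submodule.Quotient.mk_eq_zero _).1 h⟩, rfl⟩
    · rintro ⟨w, hw⟩
      obtain ⟨w, rfl⟩ := Submodule.Quotient.mk_surjective _ w
      rw [← hw]
      exact (Submodule.Quotient.mk_eq_zero _).2 w.2
  let f₂ : (R ⧸ J) →ₗ[R] R ⧸ aJ := Submodule.mapQ J aJ (LinearMap.mulLeft R a)
    (fun z hz => Submodule.mem_map_of_mem hz)
  let g₂ : (R ⧸ aJ) →ₗ[R] R ⧸ Ideal.span {a} := Submodule.mapQ aJ (Ideal.span {a}) LinearMap.id hle2
  have hf₂ : Function.Injective f₂ := by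
    intro x y h
    obtain ⟨x, rfl⟩ := Submodule.Quotient.mk_surjective _ x
    obtain ⟨y, rfl⟩ := Submodule.Quotient.mk_surjective _ y
    rw [Submodule.mapQ_apply, Submodule.mapQ_apply, Submodule.Quotient.eq] at h
    obtain ⟨z, hz, hza⟩ := h
    refine (Submodule.Quotient.eq _).2 ?_
    have : z = x - y := (mul_cancel_left_mem_nonZeroDivisors ha).1 (by
      simpa [LinearMap.mulLeft_apply, mul_sub] using hza)
    rwa [← this]
  have hg₂ : Function.Surjective g₂ := fun z => by
    obtain ⟨z, rfl⟩ := Submodule.Quotient.mk_surjective _ z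
    exact ⟨Submodule.Quotient.mk z, rfl⟩
  have he₂ : Function.Exact f₂ g₂ := fun z => by
    obtain ⟨z, rfl⟩ := Submodule.Quotient.mk_surjective _ z
    constructor
    · intro h
      obtain ⟨c, hc⟩ := Ideal.mem_span_singleton.1 ((Submodule.Quotient.mk_eq_zero _).1 h)
      exact ⟨Submodule.Quotient.mk c, congrArg Submodule.Quotient.mk hc.symm⟩
    · rintro ⟨w, hw⟩
      obtain ⟨w, rfl⟩ := Submodule.Quotient.mk_surjective _ w
      rw [← hw]
      exact (Submodule.Quotient.mk_eq_zero _).2 (Ideal.mul_mem_right w _ (Ideal.mem_span_singleton_self a))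
  have h₁ := Module.length_eq_add_of_exact f₁ g₁ hf₁ hg₁ he₁
  have h₂ := Module.length_eq_add_of_exact f₂ g₂ hf₂ hg₂ he₂
  have hne : Module.length R (R ⧸ J) ≠ ⊤ := Module.length_ne_top_iff.2 hJ
  rw [h₁, add_comm] at h₂
  exact WithTop.add_left_cancel hne h₂

lemma exists_relation (hR : ringKrullDim R = 1) (a b : R) (ha : a ∈ nonZeroDivisors R) (hna : ¬ IsUnit a) (x : Q)
    (hau : IsUnit (algebraMap R Q a)) (hx : algebraMap R Q a * x = algebraMap R Q b) :
    ∃ (d : ℕ) (P : R[X]), P.natDegree ≤ d ∧ (∃ j, IsUnit (P.coeff j)) ∧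
      aeval x P ∈ IsLocalRing.maximalIdeal R • M (R := R) x d := by
  classical
  set m := IsLocalRing.maximalIdeal R with hm
  obtain ⟨L, hL⟩ : ∃ L : ℕ, Module.length R (R ⧸ Ideal.span {a}) = L :=
    ⟨_, (ENat.coe_toNat (Module.length_ne_top_iff.2 (isFiniteLength_quot hR a ha))).symm⟩
  refine ⟨L, ?_⟩
  by_contra hcon
  push_neg at hcon
  -- the ideal `a^L M_L`
  let μ : Q →ₗ[R] Q := LinearMap.mulLeft R (algebraMap R Q (a ^ L))
  let J : Ideal R := ((M (R := R) x L).map μ).comap (Algebra.linearMap R Q)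
  have hJmap : Submodule.map (Algebra.linearMap R Q) J = (M (R := R) x L).map μ := by
    refine Submodule.map_comap_eq_self ?_
    rintro _ ⟨y, hy, rfl⟩
    obtain ⟨f, hf, rfl⟩ := exists_of_mem_M hy
    refine ⟨∑ i ∈ Finset.range (L + 1), f.coeff i * (a ^ (L - i) * b ^ i), ?_⟩
    show algebraMap R Q _ = algebraMap R Q (a ^ L) * aeval x f
    rw [Polynomial.aeval_eq_sum_range' (Nat.lt_succ_of_le hf), map_sum, Finset.mul_sum]
    refine Finset.sum_congr rfl fun i hi => ?_
    have hi' : i ≤ L := Nat.lt_succ_iff.1 (Finset.mem_range.1 hi)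
    rw [map_mul, map_mul, map_pow, map_pow, map_pow, ← hx, mul_pow, Algebra.smul_def,
      show (algebraMap R Q a) ^ L = algebraMap R Q a ^ (L - i) * algebraMap R Q a ^ i by
        rw [← pow_add, Nat.sub_add_cancel hi']]
    ring
  have haJ : a ^ L ∈ J := ⟨1, one_mem_M x L, mul_one _⟩
  have hJfl : IsFiniteLength R (R ⧸ J) :=
    Module.length_ne_top_iff.1 (ne_top_of_le_ne_top
      (Module.length_ne_top_iff.2 (isFiniteLength_quot hR (a ^ L) (pow_mem ha L)))
      (Module.length_le_of_surjective (Submodule.factor ((Ideal.span_singleton_le_iff_mem _).2 haJ))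
        (Submodule.factor_surjective _)))
  have hlen := length_quot_smul_eq a ha J hJfl
  rw [hL] at hlen
  let aJ : Submodule R J := (Submodule.map (LinearMap.mulLeft R a) J).comap J.subtype
  have haJm : aJ ≤ m • (⊤ : Submodule R J) := by
    intro z hz
    obtain ⟨w, hw, hwz⟩ := hz
    by_cases hau' : IsUnit a
    · exact absurd hau' hna
    · have : z = a • (⟨w, hw⟩ : J) := Subtype.ext hwz.symm
      rw [this]
      exact Submodule.smul_mem_smul ((IsLocalRing.mem_maximalIdeal a).2 hau') Submodule.mem_top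
  let g : Fin (L + 1) → J := fun i => ⟨a ^ (L - i) * b ^ (i : ℕ), by
    have hxi : x ^ (i : ℕ) ∈ M (R := R) x L := by
      have := aeval_mem_M (n := L) x (Polynomial.X ^ (i : ℕ) : R[X])
        ((Polynomial.natDegree_X_pow_le (i : ℕ)).trans (Nat.lt_succ_iff.1 i.2))
      rwa [map_pow, Polynomial.aeval_X] at this
    refine ⟨x ^ (i : ℕ), hxi, ?_⟩
    show algebraMap R Q (a ^ L) * x ^ (i : ℕ) = algebraMap R Q _
    rw [map_mul, map_pow, map_pow, map_pow, ← hx, mul_pow, ← mul_assoc, ← pow_add,
      Nat.sub_add_cancel (Nat.lt_succ_iff.1 i.2)]⟩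
  let ev : (Fin (L + 1) → R) →ₗ[R] J := Fintype.linearCombination R g
  let N : Submodule R (Fin (L + 1) → R) := Submodule.pi Set.univ fun _ => (m : Submodule R R)
  have hN : N ≤ (m • (⊤ : Submodule R J)).comap ev := fun c hc => by
    show ev c ∈ m • (⊤ : Submodule R J)
    rw [Fintype.linearCombination_apply]
    exact sum_mem fun i _ => Submodule.smul_mem_smul (hc i trivial) Submodule.mem_top
  let φ : ((Fin (L + 1) → R) ⧸ N) →ₗ[R] J ⧸ m • (⊤ : Submodule R J) := Submodule.mapQ N _ ev hN
  have hφ : Function.Injective φ := by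
    rw [← LinearMap.ker_eq_bot, eq_bot_iff]
    intro z hz
    obtain ⟨c, rfl⟩ := Submodule.Quotient.mk_surjective _ z
    rw [LinearMap.mem_ker, Submodule.mapQ_apply, Submodule.Quotient.mk_eq_zero] at hz
    rw [Submodule.mem_bot, Submodule.Quotient.mk_eq_zero]
    by_contra hc
    simp only [N, Submodule.mem_pi, Set.mem_univ, forall_const, not_forall] at hc
    obtain ⟨i₀, hi₀⟩ := hc
    let P : R[X] := ∑ i : Fin (L + 1), Polynomial.C (c i) * Polynomial.X ^ (i : ℕ)
    refine hcon P (Polynomial.natDegree_sum_le_of_forall_le _ _ fun i _ =>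
      (Polynomial.natDegree_C_mul_X_pow_le _ _).trans (Nat.lt_succ_iff.1 i.2)) ⟨(i₀ : ℕ), ?_⟩ ?_
    · simp only [P, Polynomial.finset_sum_coeff, Polynomial.coeff_C_mul, Polynomial.coeff_X_pow]
      rw [Finset.sum_eq_single i₀ (fun j _ hj => by simp [Fin.val_ne_of_ne hj.symm]) (fun h => absurd (Finset.mem_univ _) h)]
      simpa using (IsLocalRing.notMem_maximalIdeal.1 hi₀)
    · have h1 : algebraMap R Q (ev c : R) = μ (aeval x P) := by
        show _ = algebraMap R Q (a ^ L) * aeval x P
        simp only [ev, Fintype.linearCombination_apply, P, map_sum, map_mul, Polynomial.aeval_C, map_pow,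
          Polynomial.aeval_X, Finset.mul_sum, Submodule.coe_sum, Submodule.coe_smul, smul_eq_mul, g]
        refine Finset.sum_congr rfl fun i _ => ?_
        rw [← hx, mul_pow, show (algebraMap R Q a) ^ L = algebraMap R Q a ^ (L - (i : ℕ)) * algebraMap R Q a ^ (i : ℕ) by
          rw [← pow_add, Nat.sub_add_cancel (Nat.lt_succ_iff.1 i.2)]]
        ring
      have h2 : algebraMap R Q (ev c : R) ∈ (m • M (R := R) x L).map μ := by
        have := Submodule.mem_map_of_mem (f := (Algebra.linearMap R Q).comp J.subtype) hz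
        rwa [Submodule.map_smul'', Submodule.map_top, LinearMap.range_comp, Submodule.range_subtype, hJmap,
          ← Submodule.map_smul''] at this
      obtain ⟨y, hy, hy'⟩ := h2
      rw [h1] at hy'
      have hu : ∀ u v : Q, μ u = μ v → u = v := fun u v huv => by
        exact (((map_pow (algebraMap R Q) a L).symm ▸ hau.pow L : IsUnit (algebraMap R Q (a ^ L)))).mul_left_cancel huv
      rwa [← hu _ _ hy']
  have hlenN : Module.length R ((Fin (L + 1) → R) ⧸ N) = (L + 1 : ℕ) := by
    rw [(Submodule.quotientPi fun _ : Fin (L + 1) => (m : Submodule R R)).length_eq, Module.length_pi_of_fintype]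
    haveI : IsSimpleModule R (R ⧸ (m : Submodule R R)) :=
      isSimpleModule_iff_isCoatom.mpr (IsLocalRing.maximalIdeal.isMaximal R).out
    simp [Module.length_eq_one]
  have : ((L + 1 : ℕ) : ℕ∞) ≤ L := by
    rw [← hlenN, ← hlen]
    exact (Module.length_le_of_injective φ hφ).trans (Module.length_le_of_surjective _ (Submodule.factor_surjective haJm))
  exact absurd (ENat.coe_le_coe.1 this) (by omega)

end Groth.Agent.CommonFactor

namespace Groth.Agent.CommonFactor

variable {R Q : Type u} [CommRing R] [CommRing Q] [Algebra R Q] [IsNoetherianRing R] [IsLocalRing R]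

/-- The stabilising element: `q • M n = M (n + k)` for some monic form `q` of degree `k`. -/
lemma exists_stable (hR : ringKrullDim R = 1) (a b : R) (ha : a ∈ nonZeroDivisors R) (hna : ¬ IsUnit a) (x : Q)
    (hau : IsUnit (algebraMap R Q a)) (hx : algebraMap R Q a * x = algebraMap R Q b) :
    ∃ (k n₀ : ℕ) (q : Q), 0 < k ∧ q ∈ M (R := R) x k ∧
      ∀ y ∈ M (R := R) x (n₀ + k), ∃ z ∈ M (R := R) x n₀, q * z = y := by
  classical
  obtain ⟨d, P, hPd, ⟨j, hj⟩, hP⟩ := exists_relation hR a b ha hna x hau hx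
  set m := IsLocalRing.maximalIdeal R with hm
  let S := (Finset.range (d + 1)).filter fun i => IsUnit (P.coeff i)
  have hS : S.Nonempty := ⟨j, Finset.mem_filter.2 ⟨Finset.mem_range.2 (Nat.lt_succ_of_le
    ((Polynomial.le_natDegree_of_ne_zero hj.ne_zero).trans hPd)), hj⟩⟩
  let e := S.max' hS
  obtain ⟨he1, he2⟩ := Finset.mem_filter.1 (S.max'_mem hS)
  have hed : e ≤ d := Nat.lt_succ_iff.1 (Finset.mem_range.1 he1)
  obtain ⟨u, hu⟩ := he2
  let P₁ : R[X] := ∑ i ∈ Finset.range (e + 1), Polynomial.C (↑u⁻¹ * P.coeff i) * Polynomial.X ^ i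
  have hP₁deg : P₁.natDegree ≤ e := Polynomial.natDegree_sum_le_of_forall_le _ _ fun i hi =>
    (Polynomial.natDegree_C_mul_X_pow_le _ _).trans (Nat.lt_succ_iff.1 (Finset.mem_range.1 hi))
  have hP₁c : ∀ i, P₁.coeff i = if i ≤ e then ↑u⁻¹ * P.coeff i else 0 := fun i => by
    simp only [P₁, Polynomial.finset_sum_coeff, Polynomial.coeff_C_mul, Polynomial.coeff_X_pow, mul_ite, mul_one,
      mul_zero, Finset.sum_ite_eq, Finset.mem_range, Nat.lt_succ_iff]
  have hP₁e : P₁.coeff e = 1 := by
    rw [hP₁c, if_pos le_rfl, ← hu, Units.inv_mul]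
  have hP₁ : aeval x P₁ ∈ m • M (R := R) x d := by
    have hdiff : aeval x (Polynomial.C (↑u⁻¹ : R) * P - P₁) ∈ m • M (R := R) x d := by
      rw [Polynomial.aeval_eq_sum_range' (n := d + 1) (Nat.lt_succ_of_le ((Polynomial.natDegree_sub_le _ _).trans
        (max_le ((Polynomial.natDegree_C_mul_le _ _).trans hPd) (hP₁deg.trans hed))))]
      refine sum_mem fun i hi => Submodule.smul_mem_smul ?_ ?_
      · rw [Polynomial.coeff_sub, Polynomial.coeff_C_mul, hP₁c]
        split_ifs with hie
        · rw [sub_self]; exact zero_mem _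
        · rw [sub_zero]
          refine Ideal.mul_mem_left _ _ ((IsLocalRing.mem_maximalIdeal _).2 fun hu' => hie ?_)
          exact S.le_max' i (Finset.mem_filter.2 ⟨hi, hu'⟩)
      · have := aeval_mem_M (n := d) x (Polynomial.X ^ i : R[X])
          ((Polynomial.natDegree_X_pow_le i).trans (Nat.lt_succ_iff.1 (Finset.mem_range.1 hi)))
        rwa [map_pow, Polynomial.aeval_X] at this
    have hCP : aeval x (Polynomial.C (↑u⁻¹ : R) * P) ∈ m • M (R := R) x d := by
      rw [map_mul, Polynomial.aeval_C, ← Algebra.smul_def]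
      exact Submodule.smul_mem _ _ hP
    have := sub_mem hCP hdiff
    rwa [← map_sub, sub_sub_cancel] at this
  let Qp : R[X] := Polynomial.X * P₁ + 1
  have hXP : (Polynomial.X * P₁).natDegree ≤ e + 1 :=
    Polynomial.natDegree_mul_le.trans (by have := Polynomial.natDegree_X_le (R := R); omega)
  have hQdeg : Qp.natDegree ≤ e + 1 :=
    (Polynomial.natDegree_add_le _ _).trans (max_le hXP (by simp))
  have hQc : Qp.coeff (e + 1) = 1 := by
    simp [Qp, Polynomial.coeff_X_mul, hP₁e, Polynomial.coeff_one]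
  have hQm : Qp.Monic := Polynomial.monic_of_natDegree_le_of_coeff_eq_one (e + 1) hQdeg hQc
  have hQd : Qp.natDegree = e + 1 :=
    le_antisymm hQdeg (Polynomial.le_natDegree_of_ne_zero (by rw [hQc]; exact one_ne_zero))
  refine ⟨e + 1, d, aeval x Qp, Nat.succ_pos e, aeval_mem_M x _ hQdeg, ?_⟩
  have hle : M (R := R) x (d + (e + 1)) ≤
      (M (R := R) x d).map (LinearMap.mulLeft R (aeval x Qp)) ⊔ m • M (R := R) x (d + (e + 1)) := by
    intro y hy
    obtain ⟨f, hf, rfl⟩ := exists_of_mem_M hy
    let r := (-(f * Polynomial.X)) %ₘ Qp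
    let s := (-(f * Polynomial.X)) /ₘ Qp
    have hrs : r + Qp * s = -(f * Polynomial.X) := Polynomial.modByMonic_add_div _ Qp
    have hr : r.natDegree ≤ e := by
      have := Polynomial.natDegree_modByMonic_lt (-(f * Polynomial.X)) hQm (by
        intro h; rw [h, Polynomial.natDegree_one] at hQd; omega)
      rw [hQd] at this
      show ((-(f * Polynomial.X)) %ₘ Qp).natDegree ≤ e
      omega
    have hfeq : f - r * P₁ = Qp * (f + s * P₁) := by
      have : r = -(f * Polynomial.X) - Qp * s := eq_sub_of_add_eq hrs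
      rw [this]
      simp only [Qp]
      ring
    have hv : (f + s * P₁).natDegree ≤ d := by
      by_cases hv0 : f + s * P₁ = 0
      · rw [hv0]; simp
      have h1 : (Qp * (f + s * P₁)).natDegree = e + 1 + (f + s * P₁).natDegree := by
        rw [hQm.natDegree_mul' hv0, hQd]
      have h2 : (f - r * P₁).natDegree ≤ d + (e + 1) :=
        (Polynomial.natDegree_sub_le _ _).trans (max_le hf (Polynomial.natDegree_mul_le.trans (by omega)))
      rw [hfeq, h1] at h2
      omega
    have hsplit : aeval x f = aeval x Qp * aeval x (f + s * P₁) + aeval x P₁ * aeval x r := by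
      rw [← map_mul, ← map_mul, ← map_add, ← hfeq]
      congr 1
      ring
    rw [hsplit]
    refine Submodule.add_mem_sup ⟨_, aeval_mem_M x _ hv, rfl⟩ ?_
    exact Submodule.smul_mono le_rfl (M_mono x (Nat.add_le_add_left (hr.trans (Nat.le_succ e)) d))
      (smul_mul_mem hP₁ (aeval_mem_M x r le_rfl))
  intro y hy
  have := Submodule.le_of_le_smul_of_le_jacobson_bot (fg_M x _) (IsLocalRing.maximalIdeal_le_jacobson ⊥) hle hy
  exact this

theorem exists_common_factor (hR : ringKrullDim R = 1) (a b : R) (ha : a ∈ nonZeroDivisors R)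
    (hb : b ∈ nonZeroDivisors R) : ∃ (R' : Type u) (_ : CommRing R') (_ : Algebra R R'),
      CycAlg.IsFinExt R R' (IsLocalRing.maximalIdeal R) ∧ ∃ t a' b' : R', t ∈ nonZeroDivisors R' ∧
        a' ∈ nonZeroDivisors R' ∧ b' ∈ nonZeroDivisors R' ∧ algebraMap R R' a = t * a' ∧
        algebraMap R R' b = t * b' ∧ Ideal.span {a', b'} = ⊤ := by
  classical
  by_cases hna : IsUnit a
  · refine ⟨R, inferInstance, Algebra.id R, ⟨Function.injective_id, Module.Finite.self R, 0,
      fun r _ z => ⟨r • z, rfl⟩⟩, 1, a, b, one_mem _, ha, hb, (one_mul a).symm, (one_mul b).symm,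
      Ideal.eq_top_of_isUnit_mem _ (Ideal.subset_span (Set.mem_insert a {b})) hna⟩
  have hinj : Function.Injective (algebraMap R (Localization.Away a)) :=
    IsLocalization.injective (Localization.Away a) (Submonoid.powers_le.2 ha)
  have hau : IsUnit (algebraMap R (Localization.Away a) a) := IsLocalization.Away.algebraMap_isUnit a
  let x : Localization.Away a := algebraMap R _ b * ↑hau.unit⁻¹
  have hx : algebraMap R (Localization.Away a) a * x = algebraMap R _ b := by
    rw [mul_comm, mul_assoc, hau.val_inv_mul, mul_one]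
  obtain ⟨k, n₀, q, hk, hqM, hq⟩ := exists_stable hR a b ha hna x hau hx
  obtain ⟨zq, -, hzq⟩ := hq 1 (one_mem_M x _)
  let Sg : Finset (Localization.Away a) := (Finset.range (k + 1)).image fun i => x ^ i * zq
  let A := Algebra.adjoin R (Sg : Set (Localization.Away a))
  have hstab : ∀ y ∈ A, ∀ w ∈ M (R := R) x n₀, y * w ∈ M (R := R) x n₀ := by
    intro y hy
    induction hy using Algebra.adjoin_induction with
    | mem y hy =>
      intro w hw
      obtain ⟨i, hi, rfl⟩ := Finset.mem_image.1 (Finset.mem_coe.1 hy)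
      have hxi := aeval_mem_M (n := k) x (Polynomial.X ^ i : R[X])
        ((Polynomial.natDegree_X_pow_le i).trans (Nat.lt_succ_iff.1 (Finset.mem_range.1 hi)))
      rw [map_pow, Polynomial.aeval_X] at hxi
      obtain ⟨z, hz, hzeq⟩ := hq _ (M_mono x (le_of_eq (Nat.add_comm k n₀)) (mul_mem_M hxi hw))
      have : x ^ i * zq * w = z := by
        calc x ^ i * zq * w = zq * (x ^ i * w) := by ring
          _ = (q * zq) * z := by rw [← hzeq]; ring
          _ = z := by rw [hzq, one_mul]
      rwa [this]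
    | algebraMap r => intro w hw; rw [← Algebra.smul_def]; exact Submodule.smul_mem _ r hw
    | add y z _ _ hy hz => intro w hw; rw [add_mul]; exact add_mem (hy w hw) (hz w hw)
    | mul y z _ _ hy hz => intro w hw; rw [mul_assoc]; exact hy _ (hz w hw)
  have hAle : A.toSubmodule ≤ M (R := R) x n₀ := fun y hy => by
    simpa using hstab y hy 1 (one_mem_M x n₀)
  haveI hMf : Module.Finite R (M (R := R) x n₀) := Module.Finite.iff_fg.2 (fg_M x n₀)
  haveI hfin : Module.Finite R A :=
    Module.Finite.of_injective (Submodule.inclusion hAle) (Submodule.inclusion_injective hAle)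
  have hy : ∀ i ≤ k, x ^ i * zq ∈ A := fun i hi => Algebra.subset_adjoin
    (Finset.mem_coe.2 (Finset.mem_image.2 ⟨i, Finset.mem_range.2 (Nat.lt_succ_of_le hi), rfl⟩))
  let yv : ℕ → A := fun i => if h : i ≤ k then ⟨x ^ i * zq, hy i h⟩ else 0
  have hyv : ∀ i ≤ k, (yv i : Localization.Away a) = x ^ i * zq := fun i hi => by simp [yv, hi]
  -- finitely many maximal ideals
  let mA : Ideal A := (IsLocalRing.maximalIdeal R).map (algebraMap R A)
  have hmP : ∀ P : Ideal A, P.IsMaximal → mA ≤ P := fun P hP => by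
    haveI := hP
    haveI : Algebra.IsIntegral R A := Algebra.IsIntegral.of_finite R A
    have hc : (P.comap (algebraMap R A)).IsMaximal := Ideal.isMaximal_comap_of_isIntegral_of_isMaximal P
    exact Ideal.map_le_iff_le_comap.2 (le_of_eq (IsLocalRing.eq_maximalIdeal hc).symm)
  haveI : IsArtinianRing (A ⧸ mA) := by
    letI := Ideal.Quotient.field (IsLocalRing.maximalIdeal R)
    haveI : Module.Finite (R ⧸ IsLocalRing.maximalIdeal R) (A ⧸ mA) :=
      Module.Finite.of_restrictScalars_finite R _ _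
    exact IsArtinianRing.of_finite (R ⧸ IsLocalRing.maximalIdeal R) (A ⧸ mA)
  haveI : Finite {P : Ideal A | P.IsMaximal} :=
    Finite.of_injective (β := MaximalSpectrum (A ⧸ mA))
      (fun P => ⟨P.1.map (Ideal.Quotient.mk mA), (Ideal.map_eq_top_or_isMaximal_of_surjective _
        Ideal.Quotient.mk_surjective P.2).resolve_left fun h => P.2.ne_top (by
          have := congrArg (Ideal.comap (Ideal.Quotient.mk mA)) h
          rwa [Ideal.comap_map_quotientMk, sup_eq_right.2 (hmP P.1 P.2), Ideal.comap_top] at this)⟩)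
      (fun P P' h => Subtype.ext (by
        have := congrArg (fun z : MaximalSpectrum (A ⧸ mA) => z.asIdeal.comap (Ideal.Quotient.mk mA)) h
        simpa [Ideal.comap_map_quotientMk, sup_eq_right.2 (hmP P.1 P.2), sup_eq_right.2 (hmP P'.1 P'.2)] using this))
  have hmax : ∀ P : Ideal A, P.IsMaximal → yv 0 ∉ P ∨ yv k ∉ P := by
    intro P hP
    by_contra h
    push_neg at h
    obtain ⟨g, hg, hgq⟩ := exists_of_mem_M hqM
    have h1 : (1 : A) = ∑ i ∈ Finset.range (k + 1), algebraMap R A (g.coeff i) * yv i := by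
      apply Subtype.ext
      rw [AddSubmonoidClass.coe_finset_sum]
      show (1 : Localization.Away a) = _
      rw [← hzq, ← hgq, Polynomial.aeval_eq_sum_range' (Nat.lt_succ_of_le hg), Finset.sum_mul]
      refine Finset.sum_congr rfl fun i hi => ?_
      show _ = algebraMap R (Localization.Away a) (g.coeff i) * (yv i : Localization.Away a)
      rw [hyv i (Nat.lt_succ_iff.1 (Finset.mem_range.1 hi)), Algebra.smul_def, mul_assoc]
    apply hP.ne_top
    rw [Ideal.eq_top_iff_one, h1]
    refine sum_mem fun i hi => Ideal.mul_mem_left _ _ (hP.isPrime.mem_of_pow_mem k ?_)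
    have hik : i ≤ k := Nat.lt_succ_iff.1 (Finset.mem_range.1 hi)
    have hpow : yv i ^ k = yv 0 ^ (k - i) * yv k ^ i := by
      apply Subtype.ext
      simp only [SubmonoidClass.coe_pow, MulMemClass.coe_mul, hyv i hik, hyv 0 (Nat.zero_le k), hyv k le_rfl, pow_zero,
        one_mul, mul_pow, ← pow_mul]
      rw [show zq ^ k = zq ^ (k - i) * zq ^ i by rw [← pow_add, Nat.sub_add_cancel hik], mul_comm k i]
      ring
    rw [hpow]
    rcases Nat.eq_zero_or_pos i with hi0 | hi0
    · subst hi0
      simpa using Ideal.pow_mem_of_mem _ h.1 k hk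
    · exact Ideal.mul_mem_left _ _ (Ideal.pow_mem_of_mem _ h.2 i hi0)
  obtain ⟨β, hβ⟩ := Ideal.exists_forall_sub_mem_ideal (I := fun P : {P : Ideal A | P.IsMaximal} => (P : Ideal A))
    (fun P P' h => Ideal.isCoprime_iff_sup_eq.2 (P.2.coprime_of_ne P'.2 fun e => h (Subtype.ext e)))
    (fun P => if yv 0 ∈ (P : Ideal A) then 1 else 0)
  let α : A := 1 - β
  let e₁ : A := α * yv 0 + β * yv 1
  let e₂ : A := α * yv (k - 1) + β * yv k
  have htop : Ideal.span {e₁, e₂} = ⊤ := by
    by_contra h
    obtain ⟨P, hP, hle⟩ := Ideal.exists_le_maximal _ h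
    have h1 : e₁ ∈ P := hle (Ideal.subset_span (by simp))
    have h2 : e₂ ∈ P := hle (Ideal.subset_span (by simp))
    have hb' := hβ ⟨P, hP⟩
    by_cases h0 : yv 0 ∈ P
    · simp only [h0, if_true] at hb'
      refine (hmax P hP).resolve_left (not_not.2 h0) ?_
      have : yv k = e₂ + (β - 1) * (yv (k - 1) - yv k) := by simp only [e₂, α]; ring
      rw [this]
      exact add_mem h2 (Ideal.mul_mem_right _ _ hb')
    · simp only [h0, if_false, sub_zero] at hb'
      refine h0 ?_
      have : yv 0 = e₁ + β * (yv 0 - yv 1) := by simp only [e₁, α]; ring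
      rw [this]
      exact add_mem h1 (Ideal.mul_mem_right _ _ hb')
  obtain ⟨c₁, c₂, hc⟩ := Ideal.mem_span_pair.1 (show (1 : A) ∈ Ideal.span {e₁, e₂} by rw [htop]; trivial)
  let w : A := c₁ * yv 0 + c₂ * yv (k - 1)
  let w' : A := c₁ * yv 1 + c₂ * yv k
  have hww' : (w : Localization.Away a) * x = (w' : Localization.Away a) := by
    simp only [w, w', AddMemClass.coe_add, MulMemClass.coe_mul, hyv 0 (Nat.zero_le k), hyv 1 hk,
      hyv (k - 1) (Nat.sub_le k 1), hyv k le_rfl, pow_zero, pow_one, one_mul]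
    conv_rhs => rw [show x ^ k = x ^ (k - 1) * x by rw [← pow_succ, Nat.sub_add_cancel hk]]
    ring
  have hsw : α * w + β * w' = 1 := by
    rw [← hc]
    simp only [w, w', e₁, e₂]
    ring
  let t : A := α * algebraMap R A a + β * algebraMap R A b
  have hta : algebraMap R A a = t * w := by
    apply Subtype.ext
    have := congrArg (fun z : A => algebraMap R (Localization.Away a) a * (z : Localization.Away a)) hsw
    simp only [t, AddMemClass.coe_add, MulMemClass.coe_mul, OneMemClass.coe_one, mul_one] at this ⊢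
    show algebraMap R (Localization.Away a) a = _
    rw [← this, ← hww', Subalgebra.coe_algebraMap, Subalgebra.coe_algebraMap, ← hx]
    ring
  have htb : algebraMap R A b = t * w' := by
    apply Subtype.ext
    show algebraMap R (Localization.Away a) b = (t : Localization.Away a) * (w' : Localization.Away a)
    rw [← hx, ← hww', show algebraMap R (Localization.Away a) a = (t : Localization.Away a) * (w : Localization.Away a) from
      congrArg Subtype.val hta, mul_assoc]
  have hnzd : ∀ r ∈ nonZeroDivisors R, algebraMap R A r ∈ nonZeroDivisors A := by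
    intro r hr
    rw [mem_nonZeroDivisors_iff_right]
    intro z hz
    apply Subtype.ext
    obtain ⟨⟨z', s⟩, hs⟩ := IsLocalization.surj (Submonoid.powers a) (z : Localization.Away a)
    have h0 : (z : Localization.Away a) * algebraMap R _ r = 0 := congrArg Subtype.val hz
    have : z' * r = 0 := hinj (by
      rw [map_mul, ← hs, mul_right_comm, h0, zero_mul, map_zero])
    have hz' : z' = 0 := mem_nonZeroDivisors_iff_right.1 hr z' this
    rw [hz', map_zero] at hs
    exact (IsLocalization.map_units (Localization.Away a) s).mul_left_eq_zero.1 hs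
  have hmul := fun {u v : A} (h : u * v ∈ nonZeroDivisors A) => (mul_mem_nonZeroDivisors.1 h)
  have h₁ := hmul (hta ▸ hnzd a ha)
  have h₂ := hmul (htb ▸ hnzd b hb)
  refine ⟨A, inferInstance, inferInstance, ⟨?_, hfin, ?_⟩, t, w, w', h₁.1, h₁.2, h₂.2, hta, htb, ?_⟩
  · intro r s h
    exact hinj (congrArg Subtype.val h)
  · obtain ⟨N, hN⟩ : ∃ N : ℕ, ∀ z : A, ∃ r : R, algebraMap R (Localization.Away a) (a ^ N) * (z : Localization.Away a) = algebraMap R _ r := by
      obtain ⟨s, hs⟩ := hfin
      have key : ∀ F : Finset A, ∃ N : ℕ, ∀ z ∈ F, ∃ r : R,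
          algebraMap R (Localization.Away a) (a ^ N) * (z : Localization.Away a) = algebraMap R _ r := by
        intro F
        induction F using Finset.induction with
        | empty => exact ⟨0, by simp⟩
        | insert z F _ ih =>
          obtain ⟨N, hN⟩ := ih
          obtain ⟨⟨r, ⟨_, i, rfl⟩⟩, hr⟩ := IsLocalization.surj (Submonoid.powers a) (z : Localization.Away a)
          refine ⟨N + i, fun v hv => ?_⟩
          rw [pow_add, map_mul]
          rcases Finset.mem_insert.1 hv with rfl | hv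
          · exact ⟨a ^ N * r, by rw [map_mul, ← hr, mul_assoc, mul_comm (v : Localization.Away a)]⟩
          · obtain ⟨r', hr'⟩ := hN v hv
            exact ⟨a ^ i * r', by rw [map_mul, ← hr']; ring⟩
      obtain ⟨N, hN⟩ := key s
      refine ⟨N, fun z => ?_⟩
      have hz : z ∈ Submodule.span R (s : Set A) := by rw [hs]; trivial
      induction hz using Submodule.span_induction with
      | mem z hz => exact hN z hz
      | zero => exact ⟨0, by simp⟩
      | add u v _ _ hu hv =>
        obtain ⟨r, hr⟩ := hu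
        obtain ⟨r', hr'⟩ := hv
        exact ⟨r + r', by rw [map_add, ← hr, ← hr', AddMemClass.coe_add, mul_add]⟩
      | smul c u _ hu =>
        obtain ⟨r, hr⟩ := hu
        exact ⟨c * r, by rw [map_mul, ← hr, Subalgebra.coe_smul, Algebra.smul_def]; ring⟩
    obtain ⟨n, hn⟩ : ∃ n, IsLocalRing.maximalIdeal R ^ n ≤ Ideal.span {a ^ N} := by
      haveI : IsArtinian R (R ⧸ Ideal.span {a ^ N}) :=
        (isFiniteLength_iff_isNoetherian_isArtinian.1 (isFiniteLength_quot hR _ (pow_mem ha N))).2
      haveI : IsArtinianRing (R ⧸ Ideal.span {a ^ N}) := isArtinian_of_tower R inferInstance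
      obtain ⟨n, hn⟩ := IsArtinianRing.isNilpotent_jacobson_bot (R := R ⧸ Ideal.span {a ^ N})
      refine ⟨n, ?_⟩
      conv_rhs => rw [← Ideal.mk_ker (I := Ideal.span {a ^ N})]
      rw [← Ideal.map_eq_bot_iff_le_ker, Ideal.map_pow, eq_bot_iff, ← Ideal.zero_eq_bot, ← hn]
      refine Ideal.pow_right_mono (le_sInf fun J hJ => ?_) n
      haveI := hJ.2
      exact Ideal.map_le_iff_le_comap.2 (le_of_eq (IsLocalRing.eq_maximalIdeal
        (Ideal.comap_isMaximal_of_surjective _ Ideal.Quotient.mk_surjective)).symm)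
    refine ⟨n, fun r hr z => ?_⟩
    obtain ⟨r', rfl⟩ := Ideal.mem_span_singleton.1 (hn hr)
    obtain ⟨s, hs⟩ := hN z
    refine ⟨r' * s, Subtype.ext ?_⟩
    rw [Algebra.smul_def]
    show algebraMap R (Localization.Away a) (r' * s) = algebraMap R _ (a ^ N * r') * (z : Localization.Away a)
    rw [map_mul, map_mul, ← hs]
    ring
  · rw [Ideal.eq_top_iff_one, ← hsw]
    exact add_mem (Ideal.mul_mem_left _ _ (Ideal.subset_span (by simp))) (Ideal.mul_mem_left _ _ (Ideal.subset_span (by simp)))

end Groth.Agent.CommonFactor
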